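import Mathlib.RingTheory.DedekindDomain.Different
import Mathlib.RingTheory.Trace.Quotient
import Mathlib.RingTheory.DiscreteValuationRing.Basic
import Mathlib.RingTheory.DiscreteValuationRing.TFAE
import Mathlib.RingTheory.RamificationInertia.Ramification
import Mathlib.LinearAlgebra.Trace
import Mathlib.RingTheory.LocalRing.ResidueField.Basic

/-!
The different of an extension of discrete valuation rings and tame ramification.
-/

set_option autoImplicit false
universe u v w

open IsLocalRing
open scoped nonZeroDivisors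

namespace Groth.L21.Tame

/-- The trace is additive in short exact sequences of vector spaces. -/
theorem trace_eq_add_of_exact {K : Type*} [Field K] {N M P : Type*} [AddCommGroup N] [Module K N]
    [AddCommGroup M] [Module K M] [AddCommGroup P] [Module K P] [FiniteDimensional K M]
    (ι : N →ₗ[K] M) (π : M →ₗ[K] P) (hι : Function.Injective ι) (hπ : Function.Surjective π)
    (hex : Function.Exact ι π) (fN : N →ₗ[K] N) (fM : M →ₗ[K] M) (fP : P →ₗ[K] P)
    (h1 : fM ∘ₗ ι = ι ∘ₗ fN) (h2 : π ∘ₗ fM = fP ∘ₗ π) :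
    LinearMap.trace K M fM = LinearMap.trace K N fN + LinearMap.trace K P fP := by
  haveI : FiniteDimensional K N := FiniteDimensional.of_injective ι hι
  haveI : FiniteDimensional K P := Module.Finite.of_surjective π hπ
  obtain ⟨r, hr⟩ := ι.exists_leftInverse_of_injective (LinearMap.ker_eq_bot.mpr hι)
  obtain ⟨s₀, hs₀⟩ := π.exists_rightInverse_of_surjective (LinearMap.range_eq_top.mpr hπ)
  obtain ⟨s, hs⟩ : ∃ s, s = (LinearMap.id - ι ∘ₗ r) ∘ₗ s₀ := ⟨_, rfl⟩
  have hr' : ∀ x, r (ι x) = x := LinearMap.congr_fun hr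
  have hs₀' : ∀ x, π (s₀ x) = x := LinearMap.congr_fun hs₀
  have hdec : ι ∘ₗ r + s ∘ₗ π = LinearMap.id := by
    ext m
    obtain ⟨x, hx⟩ := (hex (s₀ (π m) - m)).mp (by rw [map_sub, hs₀', sub_self])
    have h3 : s₀ (π m) = m + ι x := by rw [hx]; abel
    simp only [hs, LinearMap.add_apply, LinearMap.comp_apply, LinearMap.sub_apply, LinearMap.id_apply,
      h3, map_add, hr']
    abel
  have hπs : π ∘ₗ s = LinearMap.id := by
    ext x
    simp only [hs, LinearMap.comp_apply, LinearMap.sub_apply, LinearMap.id_apply, map_sub, hs₀',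
      hex.apply_apply_eq_zero, sub_zero]
  calc LinearMap.trace K M fM
      = LinearMap.trace K M (fM ∘ₗ (ι ∘ₗ r + s ∘ₗ π)) := by rw [hdec, LinearMap.comp_id]
    _ = LinearMap.trace K M (ι ∘ₗ (fN ∘ₗ r)) + LinearMap.trace K M ((fM ∘ₗ s) ∘ₗ π) := by
        rw [LinearMap.comp_add, map_add, ← LinearMap.comp_assoc, h1, LinearMap.comp_assoc,
          LinearMap.comp_assoc]
    _ = LinearMap.trace K N fN + LinearMap.trace K P fP := by
        rw [LinearMap.trace_comp_comm', LinearMap.trace_comp_comm' π (fM ∘ₗ s), LinearMap.comp_assoc,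
          hr, LinearMap.comp_id, ← LinearMap.comp_assoc, h2, LinearMap.comp_assoc, hπs,
          LinearMap.comp_id]

variable (A : Type u) (B : Type v) [CommRing A] [IsDomain A] [IsDiscreteValuationRing A]
    [CommRing B] [IsDomain B] [IsDiscreteValuationRing B] [Algebra A B] [Module.Finite A B]

attribute [local instance] Ideal.Quotient.field FractionRing.liftAlgebra FractionRing.isScalarTower_liftAlgebra

theorem exists_map_eq_pow [Module.IsTorsionFree A B] [IsLocalHom (algebraMap A B)] :
    (maximalIdeal A).map (algebraMap A B) =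
      maximalIdeal B ^ Ideal.ramificationIdx (maximalIdeal B) A := by
  have hne : (maximalIdeal A).map (algebraMap A B) ≠ ⊥ := fun h =>
    IsDiscreteValuationRing.not_a_field A ((Ideal.map_eq_bot_iff_of_injective
      (FaithfulSMul.algebraMap_injective A B)).mp h)
  haveI : (maximalIdeal B).LiesOver (maximalIdeal A) :=
    ⟨(((IsLocalRing.local_hom_TFAE (algebraMap A B)).out 0 4 rfl rfl).mp ‹_›).symm⟩
  obtain ⟨ϖ, hϖ⟩ := IsDiscreteValuationRing.exists_irreducible B
  obtain ⟨n, hn⟩ := IsDiscreteValuationRing.ideal_eq_span_pow_irreducible hne hϖ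
  rw [← Ideal.span_singleton_pow, ← (IsDiscreteValuationRing.irreducible_iff_uniformizer ϖ).mp hϖ] at hn
  rw [Ideal.IsDedekindDomain.ramificationIdx_eq_multiplicity (maximalIdeal A) (maximalIdeal B) hne, hn,
    multiplicity_pow_self (IsDiscreteValuationRing.not_a_field B)
      (fun hu => (maximalIdeal.isMaximal B).ne_top (Ideal.isUnit_iff.mp hu))]

/-- Trace of multiplication on `B / m_B ^ j`. -/
theorem trace_quotient_pow [IsLocalHom (algebraMap A B)] (x : B) :
    ∀ (j : ℕ) (h : maximalIdeal A ≤ (maximalIdeal B ^ j).comap (algebraMap A B)),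
      (letI := Ideal.Quotient.algebraQuotientOfLEComap h
       Algebra.trace (A ⧸ maximalIdeal A) (B ⧸ maximalIdeal B ^ j) (Ideal.Quotient.mk _ x)) =
      j * (show A ⧸ maximalIdeal A from Algebra.trace (ResidueField A) (ResidueField B) (residue B x))
  | 0, h => by
    letI := Ideal.Quotient.algebraQuotientOfLEComap h
    haveI : Subsingleton (B ⧸ maximalIdeal B ^ 0) :=
      Ideal.Quotient.subsingleton_iff.mpr (by rw [pow_zero, Ideal.one_eq_top])
    rw [Subsingleton.elim (Ideal.Quotient.mk (maximalIdeal B ^ 0) x) 0, map_zero, Nat.cast_zero, zero_mul]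
  | j + 1, h => by
    have hj : maximalIdeal A ≤ (maximalIdeal B ^ j).comap (algebraMap A B) :=
      h.trans (Ideal.comap_mono (Ideal.pow_le_pow_right j.le_succ))
    have h1 : maximalIdeal A ≤ (maximalIdeal B).comap (algebraMap A B) :=
      h.trans (Ideal.comap_mono ((Ideal.pow_le_pow_right j.succ_pos).trans (pow_one _).le))
    have ih := trace_quotient_pow x j hj
    letI := Ideal.Quotient.algebraQuotientOfLEComap h
    letI := Ideal.Quotient.algebraQuotientOfLEComap hj
    letI : Algebra (A ⧸ maximalIdeal A) (B ⧸ maximalIdeal B) := Ideal.Quotient.algebraQuotientOfLEComap h1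
    haveI : IsScalarTower A (A ⧸ maximalIdeal A) (B ⧸ maximalIdeal B ^ (j + 1)) := .of_algebraMap_eq' rfl
    haveI : IsScalarTower A (A ⧸ maximalIdeal A) (B ⧸ maximalIdeal B ^ j) := .of_algebraMap_eq' rfl
    haveI : IsScalarTower A (A ⧸ maximalIdeal A) (B ⧸ maximalIdeal B) := .of_algebraMap_eq' rfl
    haveI : Module.Finite (A ⧸ maximalIdeal A) (B ⧸ maximalIdeal B ^ (j + 1)) :=
      Module.Finite.of_restrictScalars_finite A _ _
    have hres : Algebra.trace (A ⧸ maximalIdeal A) (B ⧸ maximalIdeal B) (Ideal.Quotient.mk _ x) =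
        Algebra.trace (ResidueField A) (ResidueField B) (residue B x) :=
      Algebra.trace_eq_of_equiv_equiv (RingEquiv.refl _) (RingEquiv.refl _)
        (by ext a; rfl) _
    obtain ⟨ϖ, hϖ⟩ := IsDiscreteValuationRing.exists_irreducible B
    have hQ : maximalIdeal B = Ideal.span {ϖ} :=
      (IsDiscreteValuationRing.irreducible_iff_uniformizer ϖ).mp hϖ
    let ι₀ : (B ⧸ maximalIdeal B) →ₗ[B] B ⧸ maximalIdeal B ^ (j + 1) :=
      Submodule.liftQ (maximalIdeal B) ((ϖ ^ j) • (Ideal.Quotient.mkₐ B (maximalIdeal B ^ (j + 1))).toLinearMap)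
        (fun b hb => by
          rw [LinearMap.mem_ker]
          show ϖ ^ j • Ideal.Quotient.mk (maximalIdeal B ^ (j + 1)) b = 0
          rw [Algebra.smul_def]
          show Ideal.Quotient.mk (maximalIdeal B ^ (j + 1)) (ϖ ^ j) * _ = 0
          rw [← map_mul, Ideal.Quotient.eq_zero_iff_mem, pow_succ (maximalIdeal B)]
          exact Ideal.mul_mem_mul (Ideal.pow_mem_pow (hQ ▸ Ideal.mem_span_singleton_self ϖ) j) hb)
    have hι₀ : ∀ b, ι₀ (Ideal.Quotient.mk _ b) = Ideal.Quotient.mk _ (ϖ ^ j * b) := fun b => by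
      show ϖ ^ j • Ideal.Quotient.mk (maximalIdeal B ^ (j + 1)) b = _
      rw [Algebra.smul_def, map_mul]
      rfl
    let π₀ : (B ⧸ maximalIdeal B ^ (j + 1)) →ₗ[B] B ⧸ maximalIdeal B ^ j :=
      Submodule.factor (Ideal.pow_le_pow_right j.le_succ)
    let ι := (ι₀.restrictScalars A).extendScalarsOfSurjective
      (show Function.Surjective (algebraMap A (A ⧸ maximalIdeal A)) from Ideal.Quotient.mk_surjective)
    let π := (π₀.restrictScalars A).extendScalarsOfSurjective
      (show Function.Surjective (algebraMap A (A ⧸ maximalIdeal A)) from Ideal.Quotient.mk_surjective)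
    have hinj : Function.Injective ι := (injective_iff_map_eq_zero ι).mpr fun z hz => by
      obtain ⟨b, rfl⟩ := Ideal.Quotient.mk_surjective z
      have hz' : Ideal.Quotient.mk (maximalIdeal B ^ (j + 1)) (ϖ ^ j * b) = 0 := (hι₀ b).symm.trans hz
      rw [Ideal.Quotient.eq_zero_iff_mem, hQ, Ideal.span_singleton_pow, Ideal.mem_span_singleton, pow_succ] at hz'
      rw [Ideal.Quotient.eq_zero_iff_mem, hQ, Ideal.mem_span_singleton]
      exact (mul_dvd_mul_iff_left (pow_ne_zero j hϖ.ne_zero)).mp hz'
    have hex : Function.Exact ι π := by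
      intro z
      obtain ⟨b, rfl⟩ := Ideal.Quotient.mk_surjective z
      constructor
      · intro hz
        have hz' : b ∈ maximalIdeal B ^ j := Ideal.Quotient.eq_zero_iff_mem.mp hz
        rw [hQ, Ideal.span_singleton_pow, Ideal.mem_span_singleton] at hz'
        obtain ⟨c, rfl⟩ := hz'
        exact ⟨Ideal.Quotient.mk _ c, hι₀ c⟩
      · rintro ⟨c, hc⟩
        obtain ⟨c, rfl⟩ := Ideal.Quotient.mk_surjective c
        rw [← hc]
        show π₀ (ι₀ (Ideal.Quotient.mk _ c)) = 0
        rw [hι₀]
        exact Ideal.Quotient.eq_zero_iff_mem.mpr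
          (Ideal.mul_mem_right _ _ (Ideal.pow_mem_pow (hQ ▸ Ideal.mem_span_singleton_self ϖ) j))
    have hmain := trace_eq_add_of_exact ι π hinj (Submodule.factor_surjective (Ideal.pow_le_pow_right j.le_succ)) hex
      (Algebra.lmul (A ⧸ maximalIdeal A) _ (Ideal.Quotient.mk (maximalIdeal B) x))
      (Algebra.lmul (A ⧸ maximalIdeal A) _ (Ideal.Quotient.mk (maximalIdeal B ^ (j + 1)) x))
      (Algebra.lmul (A ⧸ maximalIdeal A) _ (Ideal.Quotient.mk (maximalIdeal B ^ j) x))
      (by
        apply LinearMap.ext; intro z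
        obtain ⟨b, rfl⟩ := Ideal.Quotient.mk_surjective z
        show Ideal.Quotient.mk _ x * ι₀ (Ideal.Quotient.mk _ b) = ι₀ (Ideal.Quotient.mk _ x * Ideal.Quotient.mk _ b)
        rw [← map_mul (Ideal.Quotient.mk (maximalIdeal B)), hι₀, hι₀, ← map_mul, mul_left_comm])
      (by
        apply LinearMap.ext; intro z
        obtain ⟨b, rfl⟩ := Ideal.Quotient.mk_surjective z
        rfl)
    simp only [Algebra.trace_apply] at ih ⊢ hres
    rw [hmain]
    erw [hres, ih]
    rw [Nat.cast_succ, add_mul, one_mul, add_comm]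

variable [Module.IsTorsionFree A B] [IsLocalHom (algebraMap A B)]

theorem mk_intTrace (x : B) :
    Ideal.Quotient.mk (maximalIdeal A) (Algebra.intTrace A B x) =
      (Ideal.ramificationIdx (maximalIdeal B) A : A ⧸ maximalIdeal A) *
        (show A ⧸ maximalIdeal A from Algebra.trace (ResidueField A) (ResidueField B) (residue B x)) := by
  have hpn := exists_map_eq_pow A B
  have h : maximalIdeal A ≤ (maximalIdeal B ^ Ideal.ramificationIdx (maximalIdeal B) A).comap (algebraMap A B) :=
    Ideal.map_le_iff_le_comap.mp hpn.le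
  rw [← trace_quotient_pow A B x _ h, ← Algebra.trace_quotient_eq_of_isDedekindDomain]
  letI := Ideal.Quotient.algebraQuotientOfLEComap h
  rw [Algebra.trace_eq_of_equiv_equiv (RingEquiv.refl (A ⧸ maximalIdeal A)) (Ideal.quotEquivOfEq hpn)
    (by ext a; rfl)]
  rfl

theorem differentIdeal_eq_iff_tame [Algebra.IsSeparable (FractionRing A) (FractionRing B)] :
    differentIdeal A B = maximalIdeal B ^ (Ideal.ramificationIdx (maximalIdeal B) A - 1) ↔
      (Algebra.IsSeparable (ResidueField A) (ResidueField B) ∧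
        ((Ideal.ramificationIdx (maximalIdeal B) A : ℕ) : ResidueField A) ≠ 0) := by
  set e := Ideal.ramificationIdx (maximalIdeal B) A with he
  have hpn := exists_map_eq_pow A B
  rw [← he] at hpn
  haveI : (maximalIdeal B).LiesOver (maximalIdeal A) :=
    ⟨(((IsLocalRing.local_hom_TFAE (algebraMap A B)).out 0 4 rfl rfl).mp ‹_›).symm⟩
  have he0 : 0 < e := Ideal.ramificationIdx_pos (maximalIdeal B) A
  have hp0 : maximalIdeal A ≠ ⊥ := IsDiscreteValuationRing.not_a_field A
  have hlow : maximalIdeal B ^ (e - 1) ∣ differentIdeal A B :=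
    pow_sub_one_dvd_differentIdeal A (maximalIdeal B) e hp0 (hpn ▸ dvd_refl _)
  obtain ⟨ϖ, hϖ⟩ := IsDiscreteValuationRing.exists_irreducible B
  have hQ : maximalIdeal B = Ideal.span {ϖ} :=
    (IsDiscreteValuationRing.irreducible_iff_uniformizer ϖ).mp hϖ
  have hpow : ∀ n m : ℕ, maximalIdeal B ^ n ∣ maximalIdeal B ^ m ↔ n ≤ m := fun n m =>
    ⟨fun h => (pow_dvd_pow_iff (IsDiscreteValuationRing.not_a_field B)
      (fun hu => (maximalIdeal.isMaximal B).ne_top (Ideal.isUnit_iff.mp hu))).mp h, fun h => pow_dvd_pow _ h⟩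
  have h1 : differentIdeal A B = maximalIdeal B ^ (e - 1) ↔ ¬ maximalIdeal B ^ e ∣ differentIdeal A B := by
    obtain ⟨n, hn⟩ := IsDiscreteValuationRing.ideal_eq_span_pow_irreducible
      (differentIdeal_ne_bot (A := A) (B := B)) hϖ
    rw [← Ideal.span_singleton_pow, ← hQ] at hn
    rw [hn, hpow] at hlow ⊢
    refine ⟨fun h => ?_, fun h => by rw [show n = e - 1 by omega]⟩
    have := (hpow n (e - 1)).mp (h ▸ dvd_refl _)
    omega
  have h2 : ¬ maximalIdeal B ^ e ∣ differentIdeal A B ↔
      ∃ x : B, Algebra.intTrace A B x ∉ maximalIdeal A := by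
    refine ⟨fun h => ?_, fun ⟨x, hx⟩ =>
      not_dvd_differentIdeal_of_intTrace_not_mem A _ ⊤ (by rw [Ideal.mul_top, hpn]) x trivial hx⟩
    by_contra hall
    push Not at hall
    apply h
    obtain ⟨p, hp⟩ := IsDiscreteValuationRing.exists_irreducible A
    have hpA : maximalIdeal A = Ideal.span {p} :=
      (IsDiscreteValuationRing.irreducible_iff_uniformizer p).mp hp
    let K := FractionRing A
    let L := FractionRing B
    haveI : IsLocalization (Algebra.algebraMapSubmonoid B A⁰) L :=
      IsIntegralClosure.isLocalization _ K _ _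
    haveI : FiniteDimensional K L := .of_isLocalization A B A⁰
    rw [Ideal.dvd_iff_le, ← hpn]
    have hpB : (maximalIdeal A).map (algebraMap A B) = Ideal.span {algebraMap A B p} := by
      rw [hpA, Ideal.map_span, Set.image_singleton]
    have hpB0 : algebraMap A B p ≠ 0 := fun h0 => hp.ne_zero (FaithfulSMul.algebraMap_injective A B (h0.trans (map_zero _).symm))
    rw [hpB, differentialIdeal_le_iff (K := K) (L := L) (by simpa using hpB0)]
    rintro _ ⟨z, hz, rfl⟩
    replace hz : z ∈ ((Ideal.span {algebraMap A B p} : Ideal B) : FractionalIdeal B⁰ L)⁻¹ := hz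
    rw [FractionalIdeal.coeIdeal_span_singleton, FractionalIdeal.spanSingleton_inv,
      FractionalIdeal.mem_spanSingleton] at hz
    obtain ⟨b, rfl⟩ := hz
    obtain ⟨a, ha⟩ := Ideal.mem_span_singleton'.mp (hpA ▸ hall b)
    refine Submodule.mem_one.mpr ⟨a, ?_⟩
    have hne : algebraMap A K p ≠ 0 := fun h0 => hp.ne_zero (IsFractionRing.injective A K (h0.trans (map_zero _).symm))
    show algebraMap A K a = Algebra.trace K L (b • (algebraMap B L (algebraMap A B p))⁻¹)
    rw [Algebra.smul_def, ← IsScalarTower.algebraMap_apply A B L, IsScalarTower.algebraMap_apply A K L,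
      ← map_inv₀, mul_comm, ← Algebra.smul_def, map_smul, ← Algebra.algebraMap_intTrace (A := A), ← ha,
      map_mul, smul_eq_mul, mul_comm (algebraMap A K a), ← mul_assoc, inv_mul_cancel₀ hne, one_mul]
  rw [h1, h2]
  constructor
  · rintro ⟨x, hx⟩
    rw [← Ideal.Quotient.eq_zero_iff_mem, mk_intTrace] at hx
    refine ⟨?_, fun h => hx (mul_eq_zero_of_left h _)⟩
    by_contra hns
    exact hx (mul_eq_zero_of_right _ (LinearMap.congr_fun (Algebra.trace_eq_zero_of_not_isSeparable hns) _))
  · rintro ⟨hs, he'⟩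
    obtain ⟨y, hy⟩ : ∃ y, Algebra.trace (ResidueField A) (ResidueField B) y ≠ 0 := by
      simpa [LinearMap.ext_iff] using Algebra.trace_ne_zero (ResidueField A) (ResidueField B)
    obtain ⟨x, rfl⟩ := residue_surjective y
    refine ⟨x, ?_⟩
    rw [← Ideal.Quotient.eq_zero_iff_mem, mk_intTrace]
    exact mul_ne_zero he' hy

end Groth.L21.Tame
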